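import Mathlib.RingTheory.Nullstellensatz
import Mathlib.LinearAlgebra.Matrix.Determinant.Basic
import Mathlib.LinearAlgebra.Matrix.ToLinearEquiv
import Mathlib.Algebra.Polynomial.RingDivision
import Mathlib.Tactic.LinearCombination

/-!
# An eigenvector problem for binary forms

`exists_eigen`: over an algebraically closed field every linear map `R` from binary quadrics to binary cubics has an
eigenvector: `ρ ≠ 0` and a linear form `ℓ` with `R ρ = ℓ ρ`.  Equivalently, a `4 × 3` matrix of linear forms on the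
plane which is the multiplication by `ms + nt` at infinity drops rank at a finite point.

Proof.  Let `D` be the four maximal minors of `w R - m - n`.  If there is no solution, `w` vanishes on their common
zeros, so `w ^ K = ∑ g i * D i`.  Modulo `w` this is a syzygy of `(m, n) ^ 3`, so `g` is modulo `w` a combination
of the columns of the matrix (Hilbert–Burch), which kill `D`; hence `w ^ (K - 1)` is a combination of the `D i` as
well, and finally `1` is: absurd.
-/

set_option autoImplicit false
universe u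

namespace K422.Eigen

section Minors

variable {R : Type*} [CommRing R]

/-- A `3 × 3` minor of a `4 × 3` matrix. -/
def d3 (N : Fin 4 → Fin 3 → R) (a b c : Fin 4) : R :=
  N a 0 * (N b 1 * N c 2 - N b 2 * N c 1) - N a 1 * (N b 0 * N c 2 - N b 2 * N c 0) +
    N a 2 * (N b 0 * N c 1 - N b 1 * N c 0)

/-- The signed maximal minors of a `4 × 3` matrix. -/
def mn (N : Fin 4 → Fin 3 → R) : Fin 4 → R := ![d3 N 1 2 3, -d3 N 0 2 3, d3 N 0 1 3, -d3 N 0 1 2]

/-- The minors kill the columns. -/
theorem sum_mn_mul (N : Fin 4 → Fin 3 → R) (j : Fin 3) : ∑ i, mn N i * N i j = 0 := by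
  fin_cases j <;> simp [Fin.sum_univ_four, mn, d3] <;> ring

theorem map_mn {S : Type*} [CommRing S] (φ : R →+* S) (N : Fin 4 → Fin 3 → R) (i : Fin 4) :
    φ (mn N i) = mn (fun a b => φ (N a b)) i := by
  fin_cases i <;> simp [mn, d3]

theorem map_sum_mn {S : Type*} [CommRing S] (φ : R →+* S) (N : Fin 4 → Fin 3 → R) (N' : Fin 4 → Fin 3 → S)
    (hN : ∀ a b, φ (N a b) = N' a b) (g : Fin 4 → R) (c : R) (hg : ∑ i, g i * mn N i = c) :
    ∑ i, φ (g i) * mn N' i = φ c := by
  rw [← hg, map_sum]
  refine Finset.sum_congr rfl fun i _ => ?_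
  rw [map_mul, map_mn]
  have : (fun a b => φ (N a b)) = N' := by funext a b; exact hN a b
  rw [this]

theorem exists_ker {k : Type*} [Field k] (N : Fin 4 → Fin 3 → k) (h : ∀ i, mn N i = 0) :
    ∃ ρ : Fin 3 → k, ρ ≠ 0 ∧ ∀ i, ∑ j, ρ j * N i j = 0 := by
  classical
  let f : (Fin 3 → k) →ₗ[k] (Fin 4 → k) := Matrix.mulVecLin (Matrix.of N)
  have hf : ∀ ρ i, f ρ i = ∑ j, N i j * ρ j := by
    intro ρ i
    simp [f, Matrix.mulVec, dotProduct]
  have hne : LinearMap.range f ≠ ⊤ := by
    intro htop
    have h1 := LinearMap.finrank_range_le f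
    rw [htop, finrank_top] at h1
    simp at h1
  obtain ⟨v, hv⟩ : ∃ v, v ∉ LinearMap.range f := by
    by_contra hcon
    push Not at hcon
    exact hne (eq_top_iff.mpr fun v _ => hcon v)
  let M : Matrix (Fin 4) (Fin 4) k := Matrix.of fun i => ![N i 0, N i 1, N i 2, v i]
  have hdet : M.det = 0 := by
    have h0 := h 0
    have h1 := h 1
    have h2 := h 2
    have h3 := h 3
    simp only [mn, d3, Matrix.cons_val] at h0 h1 h2 h3
    simp only [M, Matrix.det_succ_row_zero, Fin.sum_univ_succ, Matrix.det_fin_zero]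
    simp [Fin.succAbove, Matrix.submatrix, Matrix.of_apply]
    linear_combination (-v 0) * h0 - v 1 * h1 - v 2 * h2 - v 3 * h3
  obtain ⟨x, hx, hMx⟩ := Matrix.exists_mulVec_eq_zero_iff.mpr hdet
  have hrow : ∀ i, N i 0 * x 0 + N i 1 * x 1 + N i 2 * x 2 + v i * x 3 = 0 := by
    intro i
    have := congrFun hMx i
    simpa [M, Matrix.mulVec, dotProduct, Fin.sum_univ_four] using this
  have hx3 : x 3 = 0 := by
    by_contra hx3
    apply hv
    refine ⟨fun j => -(x j.castSucc / x 3), ?_⟩
    funext i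
    rw [hf]
    have hr := hrow i
    simp only [Fin.sum_univ_three]
    change N i 0 * -(x 0 / x 3) + N i 1 * -(x 1 / x 3) + N i 2 * -(x 2 / x 3) = v i
    field_simp
    linear_combination -hr
  refine ⟨fun j => x j.castSucc, ?_, ?_⟩
  · intro h0
    apply hx
    funext i
    fin_cases i
    · exact congrFun h0 0
    · exact congrFun h0 1
    · exact congrFun h0 2
    · exact hx3
  · intro i
    have hr := hrow i
    rw [hx3] at hr
    simp only [Fin.sum_univ_three]
    change x 0 * N i 0 + x 1 * N i 1 + x 2 * N i 2 = 0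
    linear_combination hr

end Minors

section Descent

variable {B : Type*} [CommRing B]

/-- The matrix of `w R - (multiplication by m s + n t)`. -/
def NN {S : Type*} [CommRing S] (w m n : S) (r : Fin 3 → Fin 4 → S) : Fin 4 → Fin 3 → S :=
  ![![w * r 0 0 - m, w * r 1 0, w * r 2 0],
    ![w * r 0 1 - n, w * r 1 1 - m, w * r 2 1],
    ![w * r 0 2, w * r 1 2 - n, w * r 2 2 - m],
    ![w * r 0 3, w * r 1 3, w * r 2 3 - n]]

/-- The syzygies of `(n³, -m n², m² n, -m³)`. -/
theorem syzygy [IsDomain B] {m n : B} (hm : m ≠ 0) (hmn : ∀ x, m ∣ n * x → m ∣ x) (g : Fin 4 → B)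
    (hg : g 0 * (-n ^ 3) + g 1 * (m * n ^ 2) + g 2 * (-(m ^ 2 * n)) + g 3 * m ^ 3 = 0) :
    ∃ h : Fin 3 → B, g 0 = -(m * h 0) ∧ g 1 = -(m * h 1 + n * h 0) ∧ g 2 = -(m * h 2 + n * h 1) ∧
      g 3 = -(n * h 2) := by
  have h0 : m ∣ g 0 := by
    apply hmn; apply hmn; apply hmn
    exact ⟨g 1 * n ^ 2 - g 2 * (m * n) + g 3 * m ^ 2, by linear_combination -hg⟩
  obtain ⟨a, ha⟩ := h0
  have hg1 : a * (-n ^ 3) + g 1 * n ^ 2 - g 2 * (m * n) + g 3 * m ^ 2 = 0 := by
    apply mul_left_cancel₀ hm
    rw [ha] at hg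
    linear_combination hg
  have h1 : m ∣ g 1 - n * a := by
    apply hmn; apply hmn
    exact ⟨g 2 * n - g 3 * m, by linear_combination hg1⟩
  obtain ⟨b, hb⟩ := h1
  have hg2 : b * n ^ 2 - g 2 * n + g 3 * m = 0 := by
    apply mul_left_cancel₀ hm
    have hb' : g 1 = m * b + n * a := by linear_combination hb
    rw [hb'] at hg1
    linear_combination hg1
  have h2 : m ∣ g 2 - n * b := by
    apply hmn
    exact ⟨g 3, by linear_combination -hg2⟩
  obtain ⟨c, hc⟩ := h2
  have hg3 : -(n * c) + g 3 = 0 := by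
    apply mul_left_cancel₀ hm
    have hc' : g 2 = m * c + n * b := by linear_combination hc
    rw [hc'] at hg2
    linear_combination hg2
  refine ⟨![-a, -b, -c], ?_, ?_, ?_, ?_⟩
  · simp [ha]
  · simp only [Matrix.cons_val]
    linear_combination hb
  · simp only [Matrix.cons_val]
    linear_combination hc
  · simp only [Matrix.cons_val]
    linear_combination hg3

open Polynomial in
theorem step [IsDomain B] {m n : B} (hm : m ≠ 0) (hmn : ∀ x, m ∣ n * x → m ∣ x) (r : Fin 3 → Fin 4 → B) (K : ℕ)
    (g : Fin 4 → B[X])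
    (hg : ∑ i, g i * mn (NN (X : B[X]) (C m) (C n) (fun a b => C (r a b))) i = X ^ (K + 1)) :
    ∃ g' : Fin 4 → B[X],
      ∑ i, g' i * mn (NN (X : B[X]) (C m) (C n) (fun a b => C (r a b))) i = X ^ K := by
  set N := NN (X : B[X]) (C m) (C n) (fun a b => C (r a b)) with hN
  have hev : ∑ i, (g i).coeff 0 * mn (NN (0 : B) m n r) i = 0 := by
    have h1 := congrArg (Polynomial.constantCoeff) hg
    rw [map_sum] at h1
    simp only [map_mul, map_mn, map_pow, Polynomial.constantCoeff_apply, Polynomial.coeff_X_zero] at h1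
    rw [zero_pow (Nat.succ_ne_zero K)] at h1
    have h2 : (fun a b => (N a b).coeff 0) = NN (0 : B) m n r := by
      funext a b
      fin_cases a <;> fin_cases b <;> simp [hN, NN]
    rw [h2] at h1
    exact h1
  obtain ⟨h, e0, e1, e2, e3⟩ := syzygy hm hmn (fun i => (g i).coeff 0) (by
    rw [Fin.sum_univ_four] at hev
    simp only [mn, d3, NN, Matrix.cons_val] at hev
    linear_combination hev)
  -- the column combination
  let c : Fin 4 → B[X] := fun i => ∑ j, C (h j) * N i j
  have hc0 : ∑ i, c i * mn N i = 0 := by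
    have : ∑ i, c i * mn N i = ∑ j, C (h j) * ∑ i, mn N i * N i j := by
      simp only [c, Finset.sum_mul, Finset.mul_sum]
      rw [Finset.sum_comm]
      refine Finset.sum_congr rfl fun j _ => Finset.sum_congr rfl fun i _ => by ring
    rw [this]
    simp [sum_mn_mul]
  have hdiv : ∀ i, (X : B[X]) ∣ g i - c i := by
    intro i
    rw [Polynomial.X_dvd_iff]
    fin_cases i
    · simp only [Fin.zero_eta, Polynomial.coeff_sub]
      change (g 0).coeff 0 - _ = 0
      rw [e0]
      simp [c, hN, NN, Fin.sum_univ_three]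
      ring
    · change (g 1 - c 1).coeff 0 = 0
      rw [Polynomial.coeff_sub, e1]
      simp [c, hN, NN, Fin.sum_univ_three]
      ring
    · change (g 2 - c 2).coeff 0 = 0
      rw [Polynomial.coeff_sub, e2]
      simp [c, hN, NN, Fin.sum_univ_three]
      ring
    · change (g 3 - c 3).coeff 0 = 0
      rw [Polynomial.coeff_sub, e3]
      simp [c, hN, NN, Fin.sum_univ_three]
      ring
  choose g' hg' using hdiv
  refine ⟨g', ?_⟩
  apply mul_left_cancel₀ (Polynomial.X_ne_zero (R := B))
  rw [Finset.mul_sum, ← pow_succ', ← hg]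
  have : ∑ i, g i * mn N i = ∑ i, (g i - c i) * mn N i := by
    simp only [sub_mul, Finset.sum_sub_distrib, hc0, sub_zero]
  rw [this]
  refine Finset.sum_congr rfl fun i _ => ?_
  rw [hg' i]
  ring

open Polynomial in
theorem step_all [IsDomain B] {m n : B} (hm : m ≠ 0) (hmn : ∀ x, m ∣ n * x → m ∣ x) (r : Fin 3 → Fin 4 → B) (K : ℕ)
    (g : Fin 4 → B[X])
    (hg : ∑ i, g i * mn (NN (X : B[X]) (C m) (C n) (fun a b => C (r a b))) i = X ^ K) :
    ∃ g' : Fin 4 → B[X],
      ∑ i, g' i * mn (NN (X : B[X]) (C m) (C n) (fun a b => C (r a b))) i = 1 := by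
  induction K generalizing g with
  | zero => exact ⟨g, by simpa using hg⟩
  | succ K ih =>
    obtain ⟨g', hg'⟩ := step hm hmn r K g hg
    exact ih g' hg'

end Descent

variable {k : Type u} [Field k]

/-- The embedding of `k[w, m, n]` in `k[n][m][w]`. -/
noncomputable def emb (k : Type u) [Field k] : MvPolynomial (Fin 3) k →+* Polynomial (Polynomial (Polynomial k)) :=
  MvPolynomial.eval₂Hom (R := k) (S₁ := Polynomial (Polynomial (Polynomial k)))
    ((Polynomial.C : Polynomial (Polynomial k) →+* Polynomial (Polynomial (Polynomial k))).comp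
      ((Polynomial.C : Polynomial k →+* Polynomial (Polynomial k)).comp (Polynomial.C : k →+* Polynomial k)))
    ![Polynomial.X, Polynomial.C Polynomial.X, Polynomial.C (Polynomial.C Polynomial.X)]

theorem emb_zero : emb k (MvPolynomial.X 0) = Polynomial.X := MvPolynomial.eval₂Hom_X' _ _ _

theorem emb_one : emb k (MvPolynomial.X 1) = Polynomial.C Polynomial.X := MvPolynomial.eval₂Hom_X' _ _ _

theorem emb_two : emb k (MvPolynomial.X 2) = Polynomial.C (Polynomial.C Polynomial.X) :=
  MvPolynomial.eval₂Hom_X' _ _ _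

theorem emb_C (c : k) : emb k (MvPolynomial.C c) = Polynomial.C (Polynomial.C (Polynomial.C c)) :=
  MvPolynomial.eval₂Hom_C _ _ _

/-- The value at the origin. -/
noncomputable def val (k : Type u) [Field k] : Polynomial (Polynomial (Polynomial k)) →+* k :=
  (Polynomial.constantCoeff.comp Polynomial.constantCoeff).comp Polynomial.constantCoeff

theorem no_power (r : Fin 3 → Fin 4 → k) (K : ℕ) (g : Fin 4 → MvPolynomial (Fin 3) k)
    (hg : ∑ i, g i * mn (NN (MvPolynomial.X 0 : MvPolynomial (Fin 3) k) (MvPolynomial.X 1) (MvPolynomial.X 2)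
      (fun a b => MvPolynomial.C (r a b))) i = MvPolynomial.X 0 ^ K) : False := by
  have hm : (Polynomial.X : Polynomial (Polynomial k)) ≠ 0 := Polynomial.X_ne_zero
  have hmn : ∀ x : Polynomial (Polynomial k), Polynomial.X ∣ Polynomial.C Polynomial.X * x → Polynomial.X ∣ x := by
    intro x hx
    rcases (Polynomial.prime_X (R := Polynomial k)).dvd_or_dvd hx with h | h
    · exfalso
      rw [Polynomial.X_dvd_iff, Polynomial.coeff_C_zero] at h
      exact Polynomial.X_ne_zero h
    · exact h
  have hg' := map_sum_mn (emb k) _ (NN (Polynomial.X : Polynomial (Polynomial (Polynomial k)))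
    (Polynomial.C Polynomial.X) (Polynomial.C (Polynomial.C Polynomial.X))
    (fun a b => Polynomial.C (Polynomial.C (Polynomial.C (r a b))))) (by
      intro a b
      fin_cases a <;> fin_cases b <;> simp [NN, emb_zero, emb_one, emb_two, emb_C]) g _ hg
  rw [map_pow, emb_zero] at hg'
  obtain ⟨g₁, hg₁⟩ := step_all hm hmn (fun a b => Polynomial.C (Polynomial.C (r a b))) K _ hg'
  have h1 := map_sum_mn (val k) _ (fun _ _ => 0) (by
      intro a b
      fin_cases a <;> fin_cases b <;> simp [NN, val]) g₁ _ hg₁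
  rw [map_one] at h1
  have h2 : ∀ i, mn (fun (_ : Fin 4) (_ : Fin 3) => (0 : k)) i = 0 := by
    intro i
    fin_cases i <;> simp [mn, d3]
  simp [h2] at h1

/-- A linear map from binary quadrics to binary cubics over an algebraically closed field has an eigenvector. -/
theorem exists_eigen [IsAlgClosed k] (r : Fin 3 → Fin 4 → k) :
    ∃ (ρ : Fin 3 → k) (m n : k), ρ ≠ 0 ∧
      (∑ j, ρ j * r j 0 = m * ρ 0) ∧ (∑ j, ρ j * r j 1 = m * ρ 1 + n * ρ 0) ∧
      (∑ j, ρ j * r j 2 = m * ρ 2 + n * ρ 1) ∧ (∑ j, ρ j * r j 3 = n * ρ 2) := by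
  by_contra hcon
  -- no common zero of the minors with `w ≠ 0`
  have hw : ∀ x : Fin 3 → k, (∀ i, mn (NN (x 0) (x 1) (x 2) r) i = 0) → x 0 = 0 := by
    intro x hx
    by_contra hx0
    obtain ⟨ρ, hρ, hker⟩ := exists_ker _ hx
    apply hcon
    refine ⟨ρ, x 1 / x 0, x 2 / x 0, hρ, ?_, ?_, ?_, ?_⟩
    · have := hker 0
      simp only [NN, Fin.sum_univ_three, Matrix.cons_val] at this ⊢
      field_simp
      linear_combination this
    · have := hker 1
      simp only [NN, Fin.sum_univ_three, Matrix.cons_val] at this ⊢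
      field_simp
      linear_combination this
    · have := hker 2
      simp only [NN, Fin.sum_univ_three, Matrix.cons_val] at this ⊢
      field_simp
      linear_combination this
    · have := hker 3
      simp only [NN, Fin.sum_univ_three, Matrix.cons_val] at this ⊢
      field_simp
      linear_combination this
  have hrad : (MvPolynomial.X 0 : MvPolynomial (Fin 3) k) ∈ (Ideal.span (Set.range (mn (NN
      (MvPolynomial.X 0 : MvPolynomial (Fin 3) k) (MvPolynomial.X 1) (MvPolynomial.X 2)
      (fun a b => MvPolynomial.C (r a b)))))).radical := by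
    rw [← MvPolynomial.vanishingIdeal_zeroLocus_eq_radical (K := k)]
    rw [MvPolynomial.mem_vanishingIdeal_iff]
    intro x hx
    rw [MvPolynomial.aeval_X]
    apply hw
    intro i
    have h1 := hx _ (Ideal.subset_span ⟨i, rfl⟩)
    have h2 := map_mn ((MvPolynomial.aeval x : MvPolynomial (Fin 3) k →ₐ[k] k) : MvPolynomial (Fin 3) k →+* k)
      (NN (MvPolynomial.X 0 : MvPolynomial (Fin 3) k) (MvPolynomial.X 1) (MvPolynomial.X 2)
      (fun a b => MvPolynomial.C (r a b))) i
    have h3 : (fun a b => ((MvPolynomial.aeval x : MvPolynomial (Fin 3) k →ₐ[k] k) : MvPolynomial (Fin 3) k →+* k)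
        (NN (MvPolynomial.X 0 : MvPolynomial (Fin 3) k) (MvPolynomial.X 1) (MvPolynomial.X 2)
      (fun a b => MvPolynomial.C (r a b)) a b)) = NN (x 0) (x 1) (x 2) r := by
      funext a b
      fin_cases a <;> fin_cases b <;> simp [NN]
    rw [h3] at h2
    rw [← h2]
    exact h1
  obtain ⟨K, hK⟩ := hrad
  obtain ⟨g, hg⟩ := (Ideal.mem_span_range_iff_exists_fun).mp hK
  exact no_power r K g hg

end K422.Eigen
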